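import Cfsg.Agent.R2.Spec.X1.Gen
import Cfsg.Agent.H224.F4R.Asm

/-!
# `F4(q)`, all `q` (helper13, S3435, box X1)
-/

set_option autoImplicit false

namespace Cfsg.Agent.R2.Spec.X1

open Cfsg Cfsg.Lie Cfsg.Agent.H366.X Cfsg.Agent.H224.F4R Subgroup Finset

universe u v

/-- the frame and the identification for `F4(q)`, all `q` -/
theorem preQR_F4 {F : Type v} [Field F] [Fintype F]
    (hcl : Cl.{u}) (hF : Cfsg.Agent.H366.X.Frm.{u}) (hV : VasP.{u}) (h342 : OddCycP.{u}) (hR : RichP.{u}) :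
    PreQR.{u, v} ↥(chevF4.group F) := by
  rcases Nat.even_or_odd (Fintype.card F) with hq | hq
  · -- `q` even
    intro G _ _ hω
    have h12 : Iz ↥(chevF4.group F) (N (Fintype.card F)) := iz12
    have h8 : Iz ↥(chevF4.group F) (Fintype.card F ^ 4 + 1) := iz8_even hq
    have h0' : ∃ x : G, orderOf x = 2 := by
      have h2 : 2 ∣ Nat.card ↥(chevF4.group F) := by
        rw [Cfsg.Agent.S1062.result (F := F) rfl, show Fintype.card F ^ 24 = Fintype.card F * Fintype.card F ^ 23 by ring]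
        simp only [mul_assoc]
        exact hq.two_dvd.mul_right _
      have h3 : 2 ∈ Set.range (orderOf : ↥(chevF4.group F) → ℕ) := exists_order Nat.prime_two h2
      rw [← hω] at h3
      exact h3
    obtain ⟨K, hKn, hK, S, hSn, hS, hSna, hSc, hSI⟩ := hF G _ _ h0' (h12.of_spec hω) (h8.of_spec hω)
      (Nat.coprime_of_dvd fun r hr h1 h2 => cop hr h1 h2)
    have h8S := hSI _ (h8.of_spec hω)
    have hfs := fs hω K S (hSI _ (h12.of_spec hω)) (by
      obtain ⟨r, hr, hrN⟩ := Nat.exists_prime_and_dvd h8.one_lt.ne'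
      refine ⟨r, hr, by rintro rfl; exact h8.not_two_dvd hrN, hrN, ?_⟩
      obtain ⟨y, hy⟩ := h8S.elt
      exact hrN.trans (hy ▸ orderOf_dvd_natCard y))
    exact ⟨K, hKn, hK, S, hSn, Cfsg.Agent.H72.F4I.ident_F4 hSna (hcl ↥S) hfs (K := F) rfl⟩
  · -- `q` odd
    intro G _ _ hω
    obtain ⟨K, hKn, hK, S, hSn, hS, hSna, hSc, hiz, h8⟩ := frame_odd hV h342 hR
      ((spec_odd F hq).of_spec hω)
    exact ⟨K, hKn, hK, S, hSn, Cfsg.Agent.H72.F4I.ident_F4 hSna (hcl ↥S) (fs hω K S hiz h8) (K := F) rfl⟩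

end Cfsg.Agent.R2.Spec.X1
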