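import Cfsg.Agent.R2.Spec.Iface
import Mathlib

/-!
# From a solvable normal subgroup and a simple normal subgroup of the quotient to `SpecQR` (helper13, S3435)
-/

set_option autoImplicit false

namespace Cfsg.Agent.R2.Spec.X1

open Subgroup

universe u v

/-- the structure of a group isospectral to a simple group (S3441) -/
def StrP (L : Type v) [Group L] : Prop :=
  ∀ (G : Type u) [Group G] [Finite G], ¬ Group.IsSolvable G →
    Set.range (orderOf : G → ℕ) = Set.range (orderOf : L → ℕ) →
    ∃ (K H : Subgroup G) (_ : K.Normal) (_ : H.Normal), K ≤ H ∧ Group.IsSolvable K ∧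
      (∀ M : Subgroup G, M.Normal → Group.IsSolvable M → M ≤ K) ∧
      IsSimpleGroup (H ⧸ K.subgroupOf H) ∧ ¬ IsMulCommutative (H ⧸ K.subgroupOf H) ∧ IsCyclic (G ⧸ H)

/-- what the frames give -/
def PreQR (L : Type v) [Group L] : Prop :=
  ∀ (G : Type u) [Group G] [Finite G], Set.range (orderOf : G → ℕ) = Set.range (orderOf : L → ℕ) →
    ∃ (K : Subgroup G) (_ : K.Normal), Group.IsSolvable ↥K ∧ ∃ (S : Subgroup (G ⧸ K)) (_ : S.Normal), Nonempty (↥S ≃* L)

theorem solvable_of_quot {G : Type u} [Group G] (N : Subgroup G) [N.Normal] (h1 : Group.IsSolvable ↥N)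
    (h2 : Group.IsSolvable (G ⧸ N)) : Group.IsSolvable G :=
  Group.isSolvable_of_ker_le_range N.subtype (QuotientGroup.mk' N)
    (by rw [QuotientGroup.ker_mk', Subgroup.range_subtype])

/-- **Quasirecognition from the frames.** -/
theorem specQR_of {L : Type v} [Group L] [Finite L] [IsSimpleGroup L] (hL : ¬ IsMulCommutative L)
    (hs : StrP.{u, v} L) (h : PreQR.{u, v} L) : SpecQR.{u, v} L := by
  intro G _ _ hω
  obtain ⟨K', hK'n, hK', S, hSn, ⟨e⟩⟩ := h G hω
  have hLns : ¬ Group.IsSolvable L := by
    intro h1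
    refine hL ⟨⟨fun a b => IsSimpleGroup.comm_iff_isSolvable.2 h1 a b⟩⟩
  have hSns : ¬ Group.IsSolvable ↥S := fun h1 => hLns (Group.isSolvable_of_isSolvable_injective (f := e.symm.toMonoidHom)
    e.symm.injective)
  have hGns : ¬ Group.IsSolvable G := by
    intro h1
    have h2 : Group.IsSolvable (G ⧸ K') := Group.isSolvable_of_surjective (f := QuotientGroup.mk' K')
      (QuotientGroup.mk'_surjective K')
    exact hSns (Group.isSolvable_of_isSolvable_injective (f := S.subtype) (Subgroup.subtype_injective _))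
  obtain ⟨K, H, hKn, hHn, hKH, hK, hKmax, hHs, hHna, hcyc⟩ := hs G hGns hω
  -- the preimage of `S`
  set H' : Subgroup G := S.comap (QuotientGroup.mk' K') with hH'
  have hH'n : H'.Normal := hSn.comap _
  have hK'H' : K' ≤ H' := by
    intro x hx
    rw [hH', Subgroup.mem_comap]
    have : QuotientGroup.mk' K' x = 1 := by
      rw [← MonoidHom.mem_ker, QuotientGroup.ker_mk']
      exact hx
    rw [this]
    exact one_mem _
  -- `H' ⧸ K' ≃ S`
  let f : ↥H' →* ↥S := (QuotientGroup.mk' K').subgroupComap S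
  have hf : Function.Surjective f := by
    rintro ⟨y, hy⟩
    obtain ⟨x, rfl⟩ := QuotientGroup.mk'_surjective K' y
    exact ⟨⟨x, hy⟩, Subtype.ext rfl⟩
  have hfk : f.ker = K'.subgroupOf H' := by
    ext x
    rw [MonoidHom.mem_ker, Subgroup.mem_subgroupOf, ← QuotientGroup.eq_one_iff (N := K') (x : G)]
    constructor
    · intro h1
      exact congrArg Subtype.val h1
    · intro h1
      exact Subtype.ext h1
  let e1 : ↥H' ⧸ K'.subgroupOf H' ≃* ↥S :=
    (QuotientGroup.quotientMulEquivOfEq hfk.symm).trans (QuotientGroup.quotientKerEquivOfSurjective f hf)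
  refine ⟨K', H', hK'n, hH'n, hK'H', hK', ?_, ⟨e1.trans e⟩⟩
  -- `G ⧸ H'` is solvable
  have hK'K : K' ≤ K := hKmax K' hK'n hK'
  have hH'ns : ¬ Group.IsSolvable ↥H' := fun h1 => hSns (Group.isSolvable_of_surjective (f := f) hf)
  have hSsimple : IsSimpleGroup ↥S := by
    have : Nontrivial ↥S := e.toEquiv.nontrivial
    exact IsSimpleGroup.isSimpleGroup_of_surjective e.symm.toMonoidHom e.symm.surjective
  -- `H' ≤ H`
  have hH'H : H' ≤ H := by
    -- the image of `H ⊓ H'` in `S`
    have hN : ((H.subgroupOf H').map f).Normal := by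
      have : (H.subgroupOf H').Normal := hHn.subgroupOf H'
      exact this.map f hf
    rcases hSsimple.eq_bot_or_eq_top_of_normal _ hN with h1 | h1
    · -- then `H'` would be solvable
      exfalso
      apply hH'ns
      have h2 : H.subgroupOf H' ≤ K'.subgroupOf H' := by
        rw [← hfk]
        exact (Subgroup.map_eq_bot_iff _).1 h1
      have h3 : Group.IsSolvable ↥(H.subgroupOf H') := by
        have hK's : Group.IsSolvable ↥(K'.subgroupOf H') :=
          Group.isSolvable_of_isSolvable_injective (f := (Subgroup.subgroupOfEquivOfLe hK'H').toMonoidHom)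
            (Subgroup.subgroupOfEquivOfLe hK'H').injective
        exact Group.isSolvable_of_isSolvable_injective (f := Subgroup.inclusion h2) (Subgroup.inclusion_injective h2)
      have h4 : Group.IsSolvable (↥H' ⧸ H.subgroupOf H') := by
        have hc : Group.IsSolvable (G ⧸ H) := by
          obtain ⟨g, hg⟩ := hcyc.exists_generator
          exact Group.isSolvable_of_comm fun a b => by
            obtain ⟨m, rfl⟩ := hg a
            obtain ⟨n, rfl⟩ := hg b
            show g ^ m * g ^ n = g ^ n * g ^ m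
            rw [← zpow_add, ← zpow_add, add_comm]
        let j : ↥H' ⧸ H.subgroupOf H' →* G ⧸ H :=
          QuotientGroup.map (H.subgroupOf H') H H'.subtype (le_refl _)
        have hj : Function.Injective j := by
          rw [← MonoidHom.ker_eq_bot_iff, eq_bot_iff]
          intro x hx
          obtain ⟨y, rfl⟩ := QuotientGroup.mk'_surjective _ x
          rw [Subgroup.mem_bot]
          have h5 : (QuotientGroup.mk (s := H) (y : G)) = 1 := hx
          rw [QuotientGroup.eq_one_iff] at h5
          exact (QuotientGroup.eq_one_iff y).2 h5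
        exact Group.isSolvable_of_isSolvable_injective (f := j) hj
      exact solvable_of_quot (H.subgroupOf H') h3 h4
    · -- `H' = (H ⊓ H') K'`
      intro x hx
      have h2 : f ⟨x, hx⟩ ∈ (H.subgroupOf H').map f := by
        rw [h1]
        exact Subgroup.mem_top _
      obtain ⟨y, hy, hyx⟩ := h2
      have h3 : y⁻¹ * ⟨x, hx⟩ ∈ f.ker := by
        rw [MonoidHom.mem_ker, map_mul, map_inv, hyx, inv_mul_cancel]
      rw [hfk, Subgroup.mem_subgroupOf] at h3
      have h4 : ((y : G)⁻¹ * x) ∈ H := hKH (hK'K h3)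
      have h5 : (y : G) ∈ H := hy
      have h6 := mul_mem h5 h4
      rwa [mul_inv_cancel_left] at h6
  -- `H = H' K`
  have hHK : ∀ x ∈ H, ∃ y ∈ H', ∃ k ∈ K, x = y * k := by
    have hN : ((H'.subgroupOf H).map (QuotientGroup.mk' (K.subgroupOf H))).Normal := by
      have : (H'.subgroupOf H).Normal := hH'n.subgroupOf H
      exact this.map _ (QuotientGroup.mk'_surjective _)
    rcases hHs.eq_bot_or_eq_top_of_normal _ hN with h1 | h1
    · exfalso
      apply hH'ns
      have h2 : H' ≤ K := by
        intro x hx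
        have h3 : (⟨x, hH'H hx⟩ : ↥H) ∈ (QuotientGroup.mk' (K.subgroupOf H)).ker :=
          (Subgroup.map_eq_bot_iff _).1 h1 hx
        rw [QuotientGroup.ker_mk', Subgroup.mem_subgroupOf] at h3
        exact h3
      exact Group.isSolvable_of_isSolvable_injective (f := Subgroup.inclusion h2) (Subgroup.inclusion_injective h2)
    · intro x hx
      have h2 : QuotientGroup.mk' (K.subgroupOf H) ⟨x, hx⟩ ∈
          (H'.subgroupOf H).map (QuotientGroup.mk' (K.subgroupOf H)) := by
        rw [h1]
        exact Subgroup.mem_top _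
      obtain ⟨y, hy, hyx⟩ := h2
      have h3 : y⁻¹ * ⟨x, hx⟩ ∈ (QuotientGroup.mk' (K.subgroupOf H)).ker := by
        rw [MonoidHom.mem_ker, map_mul, map_inv, hyx, inv_mul_cancel]
      rw [QuotientGroup.ker_mk', Subgroup.mem_subgroupOf] at h3
      exact ⟨y, hy, _, h3, (mul_inv_cancel_left _ _).symm⟩
  -- the image of `K` in `G ⧸ H'`
  have h1 : Group.IsSolvable ↥(K.map (QuotientGroup.mk' H')) :=
    Group.isSolvable_of_surjective (f := (QuotientGroup.mk' H').subgroupMap K)
      ((QuotientGroup.mk' H').subgroupMap_surjective K)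
  have hmn : (K.map (QuotientGroup.mk' H')).Normal := hKn.map _ (QuotientGroup.mk'_surjective _)
  have hle : H' ≤ H := hH'H
  have h2 : H.map (QuotientGroup.mk' H') = K.map (QuotientGroup.mk' H') := by
    apply le_antisymm
    · rintro _ ⟨x, hx, rfl⟩
      obtain ⟨y, hy, k, hk, rfl⟩ := hHK x hx
      refine ⟨k, hk, ?_⟩
      rw [map_mul]
      have : QuotientGroup.mk' H' y = 1 := (QuotientGroup.eq_one_iff y).2 hy
      rw [this, one_mul]
    · exact Subgroup.map_mono hKH
  -- `(G ⧸ H') ⧸ (H ⧸ H') ≃ G ⧸ H`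
  have h3 : Group.IsSolvable (G ⧸ H) := by
    obtain ⟨g, hg⟩ := hcyc.exists_generator
    exact Group.isSolvable_of_comm fun a b => by
      obtain ⟨m, rfl⟩ := hg a
      obtain ⟨n, rfl⟩ := hg b
      show g ^ m * g ^ n = g ^ n * g ^ m
      rw [← zpow_add, ← zpow_add, add_comm]
  let π : G ⧸ H' →* G ⧸ H := QuotientGroup.map H' H (MonoidHom.id G) hle
  have hπ : π.ker ≤ (K.map (QuotientGroup.mk' H')).subtype.range := by
    rw [Subgroup.range_subtype, ← h2]
    intro x hx
    obtain ⟨y, rfl⟩ := QuotientGroup.mk'_surjective _ x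
    have h5 : (QuotientGroup.mk (s := H) y) = 1 := hx
    rw [QuotientGroup.eq_one_iff] at h5
    exact ⟨y, h5, rfl⟩
  exact Group.isSolvable_of_ker_le_range (K.map (QuotientGroup.mk' H')).subtype π hπ

end Cfsg.Agent.R2.Spec.X1
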